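import Mathlib
import Groth.Agent.S2768
import Groth.Agent.DimFormulaLib.Scheme
import Groth.Agent.GenSmoothLib.Basic
import Groth.Agent.MonoFibre.SchemeImage
import Groth.Agent.ASp.GeomRedEt

/-!
Relative dimensions of smooth morphisms over a field, and generic smoothness for a smooth source.
-/

set_option autoImplicit false
set_option backward.isDefEq.respectTransparency false
set_option linter.style.haveILetI false

universe u

open CategoryTheory CategoryTheory.Limits AlgebraicGeometry TopologicalSpace Topology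

namespace Groth.Agent.TransvLib

variable {k : Type u} [Field k] {A B : Scheme.{u}}

theorem topologicalKrullDim_eq (q : A ⟶ Spec (CommRingCat.of k)) (n : ℕ) [SmoothOfRelativeDimension n q]
    [Nonempty A] : topologicalKrullDim A = (n : WithBot ℕ∞) := by
  rw [DimFormulaLib.topologicalKrullDim_eq_iSup_localDim]
  simp [Groth.Agent.S2768.localDim_eq n q]

theorem relDim_unique (q : A ⟶ Spec (CommRingCat.of k)) (m n : ℕ) (hm : SmoothOfRelativeDimension m q)
    (hn : SmoothOfRelativeDimension n q) [Nonempty A] : m = n := by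
  have h1 := @topologicalKrullDim_eq _ _ _ q m hm _
  have h2 := @topologicalKrullDim_eq _ _ _ q n hn _
  rw [h1] at h2
  exact_mod_cast h2

theorem relDim_restrict {n : ℕ} (q : A ⟶ B) (h : SmoothOfRelativeDimension n q) (U : A.Opens) :
    SmoothOfRelativeDimension n (U.ι ≫ q) := by
  have := (smoothOfRelativeDimension_comp (n := 0) (m := n) U.ι q)
  rwa [Nat.zero_add] at this

/-- A standard smooth chart of relative dimension `e` gives relative dimension `e` on the chart. -/
theorem relDim_chart (f : A ⟶ B) {V : B.Opens} {U : A.Opens} (hV : IsAffineOpen V) (hU : IsAffineOpen U)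
    (le : U ≤ f ⁻¹ᵁ V) (e : ℕ) (h : (f.appLE V U le).hom.IsStandardSmoothOfRelativeDimension e) :
    SmoothOfRelativeDimension e (f.resLE V U le) := by
  haveI : IsAffine V.toScheme := hV
  haveI : IsAffine U.toScheme := hU
  rw [HasRingHomProperty.iff_of_isAffine (P := @SmoothOfRelativeDimension e)]
  refine RingHom.locally_of RingHom.isStandardSmoothOfRelativeDimension_respectsIso _ ?_
  exact (RingHom.isStandardSmoothOfRelativeDimension_respectsIso.arrow_mk_iso_iff (arrowResLEAppIso f V U le)).mpr h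

theorem exists_chart_relDim (f : A ⟶ B) [Smooth f] (x : A) :
    ∃ (e : ℕ) (U : A.Opens), x ∈ U ∧ SmoothOfRelativeDimension e (U.ι ≫ f) := by
  obtain ⟨V, hV, U, hU, hxU, le, hstd⟩ := Smooth.exists_isStandardSmooth f x
  algebraize [(f.appLE V U le).hom]
  obtain ⟨ι, σ, _, _, ⟨P⟩⟩ := (‹Algebra.IsStandardSmooth Γ(B, V) Γ(A, U)›).out
  haveI := relDim_chart f hV hU le P.dimension
    (Algebra.IsStandardSmoothOfRelativeDimension.mk ⟨ι, σ, inferInstance, inferInstance, P, rfl⟩)
  refine ⟨P.dimension, U, hxU, ?_⟩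
  have := smoothOfRelativeDimension_comp (n := P.dimension) (m := 0) (f.resLE V U le) V.ι
  rwa [Scheme.Hom.resLE_comp_ι, Nat.add_zero] at this

/-- The relative dimension of a smooth morphism between smooth schemes over a field. -/
theorem relDim_of_comp (f : A ⟶ B) [Smooth f] (qB : B ⟶ Spec (CommRingCat.of k)) (m N : ℕ)
    (hm : SmoothOfRelativeDimension m qB) (hN : SmoothOfRelativeDimension N (f ≫ qB)) :
    (Nonempty A → m ≤ N) ∧ SmoothOfRelativeDimension (N - m) f := by
  have key : ∀ x : A, ∃ U : A.Opens, x ∈ U ∧ m ≤ N ∧ SmoothOfRelativeDimension (N - m) (U.ι ≫ f) := by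
    intro x
    obtain ⟨e, U, hxU, he⟩ := exists_chart_relDim f x
    haveI : Nonempty U.toScheme := ⟨⟨x, hxU⟩⟩
    have h1 := smoothOfRelativeDimension_comp (n := e) (m := m) (U.ι ≫ f) qB
    rw [Category.assoc] at h1
    have h2 := relDim_unique (U.ι ≫ f ≫ qB) (e + m) N h1 (relDim_restrict _ hN U)
    refine ⟨U, hxU, by omega, ?_⟩
    rw [show N - m = e by omega]
    exact he
  refine ⟨fun ⟨x⟩ => (key x).choose_spec.2.1, ?_⟩
  choose U hxU _ hU using key
  exact IsZariskiLocalAtSource.of_openCover (P := @SmoothOfRelativeDimension (N - m))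
    (A.openCoverOfIsOpenCover U (IsOpenCover.mk (eq_top_iff.mpr fun x _ => Opens.mem_iSup.2 ⟨x, hxU x⟩))) hU

/-- Smoothness at a point may be tested after composing with an open immersion. -/
theorem smoothLocus_of_comp_ι {C : Scheme.{u}} (U : C.Opens) {A' : Scheme.{u}} (f' : A' ⟶ U.toScheme)
    [LocallyOfFinitePresentation f'] {x : A'} (hx : x ∈ (f' ≫ U.ι).smoothLocus) : x ∈ f'.smoothLocus := by
  have h : x ∈ (f' ≫ U.ι).smoothLocus := hx
  simp only [Scheme.Hom.mem_smoothLocus, Scheme.Hom.stalkMap_comp] at h ⊢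
  exact (RingHom.FormallySmooth.respectsIso.cancel_left_isIso (U.ι.stalkMap (f' x)) (f'.stalkMap x)).mp h

/-- An irreducible smooth scheme over a field has a relative dimension, equal to its dimension. -/
theorem exists_relDim (q : A ⟶ Spec (CommRingCat.of k)) [Smooth q] [IrreducibleSpace A] :
    ∃ d : ℕ, SmoothOfRelativeDimension d q ∧ topologicalKrullDim A = (d : WithBot ℕ∞) := by
  choose e U hxU hU using exists_chart_relDim q
  obtain ⟨x₀⟩ : Nonempty A := inferInstance
  have heq : ∀ x, e x = e x₀ := by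
    intro x
    obtain ⟨z, hz1, hz2⟩ := nonempty_preirreducible_inter (U x).2 (U x₀).2 ⟨x, hxU x⟩ ⟨x₀, hxU x₀⟩
    haveI : Nonempty (U x ⊓ U x₀).toScheme := ⟨⟨z, hz1, hz2⟩⟩
    have h1 := relDim_restrict _ (hU x) ((U x).ι ⁻¹ᵁ (U x₀))
    refine relDim_unique ((U x ⊓ U x₀).ι ≫ q) _ _ ?_ ?_
    · have := smoothOfRelativeDimension_comp (n := 0) (m := e x) (A.homOfLE (inf_le_left : U x ⊓ U x₀ ≤ U x)) ((U x).ι ≫ q)
      rwa [← Category.assoc, Scheme.homOfLE_ι, Nat.zero_add] at this
    · have := smoothOfRelativeDimension_comp (n := 0) (m := e x₀) (A.homOfLE (inf_le_right : U x ⊓ U x₀ ≤ U x₀)) ((U x₀).ι ≫ q)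
      rwa [← Category.assoc, Scheme.homOfLE_ι, Nat.zero_add] at this
  have h : SmoothOfRelativeDimension (e x₀) q :=
    IsZariskiLocalAtSource.of_openCover (P := @SmoothOfRelativeDimension (e x₀))
      (A.openCoverOfIsOpenCover U (IsOpenCover.mk (eq_top_iff.mpr fun x _ => Opens.mem_iSup.2 ⟨x, hxU x⟩)))
      (fun x => heq x ▸ hU x)
  exact ⟨_, h, @topologicalKrullDim_eq _ _ _ q _ h _⟩

theorem exists_relDim_eq (q : A ⟶ Spec (CommRingCat.of k)) [Smooth q] [IrreducibleSpace A] (d : ℕ)
    (hd : topologicalKrullDim A = (d : WithBot ℕ∞)) : SmoothOfRelativeDimension d q := by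
  obtain ⟨d', h1, h2⟩ := exists_relDim q
  rw [h2] at hd
  obtain rfl : d' = d := by exact_mod_cast hd
  exact h1

/-- Generic smoothness in characteristic zero for a smooth, possibly reducible, source. -/
theorem exists_open_smooth_preimage [CharZero k] {W Y : Scheme.{u}} [IsIntegral Y] (qW : W ⟶ Spec (CommRingCat.of k))
    (qY : Y ⟶ Spec (CommRingCat.of k)) [QuasiCompact qW] [Smooth qW]
    [LocallyOfFiniteType qY] [QuasiCompact qY] [IsSeparated qY] (f : W ⟶ Y) (hf : f ≫ qY = qW)
    [LocallyOfFinitePresentation f] :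
    ∃ V : Y.Opens, (V : Set Y).Nonempty ∧ f ⁻¹ᵁ V ≤ f.smoothLocus := by
  haveI : LocallyOfFiniteType (f ≫ qY) := hf ▸ inferInstance
  haveI : LocallyOfFiniteType f := locallyOfFiniteType_of_comp f qY
  haveI : QuasiCompact (f ≫ qY) := hf ▸ inferInstance
  haveI : QuasiCompact f := QuasiCompact.of_comp f qY
  haveI : IsLocallyNoetherian Y := LocallyOfFiniteType.isLocallyNoetherian qY
  haveI : IsLocallyNoetherian W := LocallyOfFiniteType.isLocallyNoetherian qW
  haveI : CompactSpace W := QuasiCompact.compactSpace_of_compactSpace qW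
  haveI : IsNoetherian W := ⟨⟩
  let Bad : Set W := (f.smoothLocus : Set W)ᶜ
  have hB : Topology.IsConstructible Bad :=
    (IsRetrocompact.isConstructible f.smoothLocus.2 (fun U hU _ => NoetherianSpace.isCompact _)).compl
  have hη : genericPoint Y ∉ f '' Bad := by
    rintro ⟨x, hxB, hx⟩
    haveI := Groth.Agent.ASp.isRegularLocalRing_stalk_of_smooth_field qW x
    exact hxB (Groth.Agent.GenSmoothLib.mem_smoothLocus_of_regular qY f x hx)
  have hd : Dense ((f '' Bad)ᶜ) := by
    rw [dense_iff_closure_eq, Set.eq_univ_iff_forall]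
    exact fun y => ((genericPoint_spec Y).specializes (Set.mem_univ y)).mem_closed isClosed_closure (subset_closure hη)
  haveI : CompactSpace Y := QuasiCompact.compactSpace_of_compactSpace qY
  haveI : IsNoetherian Y := ⟨⟩
  refine ⟨⟨interior ((f '' Bad)ᶜ), isOpen_interior⟩, (Groth.Agent.MonoFibre.SchemeImage.dense_interior_of_isConstructible
    (f.isConstructible_image hB).compl hd).nonempty, ?_⟩
  intro x hx
  by_contra hxs
  exact interior_subset hx ⟨x, hxs, rfl⟩

end Groth.Agent.TransvLib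

namespace Groth.Agent.TransvLib

variable {k : Type u} [Field k] [CharZero k] {W Y : Scheme.{u}} [IsIntegral Y]

/-- The fibres over the rational points of a nonempty open are smooth of the expected dimension. -/
theorem exists_open_fibres (qW : W ⟶ Spec (CommRingCat.of k)) (qY : Y ⟶ Spec (CommRingCat.of k))
    [QuasiCompact qW] [LocallyOfFiniteType qY] [QuasiCompact qY] [IsSeparated qY] (N m : ℕ)
    (hW : SmoothOfRelativeDimension N qW) (hY : SmoothOfRelativeDimension m qY) (q : W ⟶ Y) (hq : q ≫ qY = qW) :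
    ∃ V : Y.Opens, (V : Set Y).Nonempty ∧ ∀ σ : Spec (CommRingCat.of k) ⟶ Y, Set.range σ.base ⊆ (V : Set Y) →
      ∀ {F : Scheme.{u}} (α : F ⟶ W) (b : F ⟶ Spec (CommRingCat.of k)), IsPullback α b q σ →
        Smooth b ∧ (IsEmpty F ∨ (m ≤ N ∧ topologicalKrullDim F = ((N - m : ℕ) : WithBot ℕ∞))) := by
  haveI : Smooth qW := SmoothOfRelativeDimension.smooth N qW
  haveI : LocallyOfFiniteType (q ≫ qY) := hq ▸ inferInstance
  haveI : LocallyOfFiniteType q := locallyOfFiniteType_of_comp q qY
  haveI : IsLocallyNoetherian Y := LocallyOfFiniteType.isLocallyNoetherian qY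
  haveI : LocallyOfFinitePresentation q := (LocallyOfFinitePresentation.iff_locallyOfFiniteType).2 inferInstance
  obtain ⟨V, hV, hVs⟩ := exists_open_smooth_preimage qW qY q hq
  refine ⟨V, hV, fun σ hσ F α b hpb => ?_⟩
  haveI : Smooth (q ∣_ V) := by
    rw [← Scheme.Hom.smoothLocus_eq_top_iff, eq_top_iff]
    intro x _
    have h1 : x ∈ (q ⁻¹ᵁ V).ι ⁻¹ᵁ q.smoothLocus := hVs x.2
    rw [Scheme.Hom.preimage_smoothLocus_eq] at h1
    simp only [← morphismRestrict_ι] at h1
    exact smoothLocus_of_comp_ι V (q ∣_ V) h1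
  obtain ⟨hle, hqd⟩ := relDim_of_comp (q ∣_ V) (V.ι ≫ qY) m N (relDim_restrict _ hY V) (by
    rw [morphismRestrict_ι_assoc, hq]
    exact relDim_restrict _ hW _)
  let σV : Spec (CommRingCat.of k) ⟶ V.toScheme :=
    IsOpenImmersion.lift V.ι σ (by rw [Scheme.Opens.range_ι]; exact hσ)
  have hσV : σV ≫ V.ι = σ := IsOpenImmersion.lift_fac _ _ _
  have hr := (isPullback_morphismRestrict q V).flip
  let β := hr.lift α (b ≫ σV) (by rw [Category.assoc, hσV]; exact hpb.w)
  have p4 : IsPullback β b (q ∣_ V) σV := by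
    refine IsPullback.of_right (h₁₂ := (q ⁻¹ᵁ V).ι) (h₂₂ := V.ι) (v₁₃ := q) ?_ (hr.lift_snd _ _ _) hr
    rw [hσV, hr.lift_fst]
    exact hpb
  haveI := smoothOfRelativeDimension_isStableUnderBaseChange (n := N - m)
  haveI hb : SmoothOfRelativeDimension (N - m) b := MorphismProperty.of_isPullback p4 hqd
  refine ⟨SmoothOfRelativeDimension.smooth (N - m) b, ?_⟩
  rcases isEmpty_or_nonempty F with hE | hne
  · exact Or.inl hE
  obtain ⟨x⟩ := hne
  haveI : Nonempty F := ⟨x⟩
  exact Or.inr ⟨hle ⟨β x⟩, topologicalKrullDim_eq b (N - m)⟩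

theorem relDim_fst {A B S : Scheme.{u}} (f : A ⟶ S) (g : B ⟶ S) (n : ℕ) (h : SmoothOfRelativeDimension n g) :
    SmoothOfRelativeDimension n (pullback.fst f g) := by
  haveI := smoothOfRelativeDimension_isStableUnderBaseChange (n := n)
  exact MorphismProperty.pullback_fst f g h

theorem relDim_snd {A B S : Scheme.{u}} (f : A ⟶ S) (g : B ⟶ S) (n : ℕ) (h : SmoothOfRelativeDimension n f) :
    SmoothOfRelativeDimension n (pullback.snd f g) := by
  haveI := smoothOfRelativeDimension_isStableUnderBaseChange (n := n)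
  exact MorphismProperty.pullback_snd f g h

end Groth.Agent.TransvLib
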